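import Groth.Agent.TorusPts.Criterion
import Mathlib.RingTheory.HopfAlgebra.Basic
import Mathlib.RingTheory.Finiteness.Descent
import Mathlib.RingTheory.Jacobson.Ring
import Mathlib.FieldTheory.IsAlgClosed.AlgebraicClosure
import Mathlib.FieldTheory.Normal.Closure
import Mathlib.RingTheory.Flat.Basic
import Mathlib.GroupTheory.Finiteness

/-!
# A diagonalisable group over an extension is diagonalisable over a finite normal extension
-/

set_option autoImplicit false
universe u

open scoped TensorProduct MonoidAlgebra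
open MonoidAlgebra

namespace Groth.Agent.TorusPts

variable {K L A : Type u} [Field K] [Field L] [Algebra K L] [CommRing A] [HopfAlgebra K A]
  {G : Type u} [CommGroup G]

theorem exists_finset_mem_range_tensor (z : L ⊗[K] A) :
    ∃ s : Finset L, ∀ R : Subalgebra K L, (s : Set L) ⊆ R →
      z ∈ Set.range (Algebra.TensorProduct.map R.val (AlgHom.id K A)) := by
  classical
  induction z using TensorProduct.induction_on with
  | zero => exact ⟨∅, fun R _ => ⟨0, map_zero _⟩⟩
  | tmul l a =>
    refine ⟨{l}, fun R hR => ⟨(⟨l, hR (by simp)⟩ : R) ⊗ₜ a, ?_⟩⟩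
    simp
  | add x y hx hy =>
    obtain ⟨s, hs⟩ := hx
    obtain ⟨t, ht⟩ := hy
    refine ⟨s ∪ t, fun R hR => ?_⟩
    obtain ⟨x', rfl⟩ := hs R (fun a ha => hR (by simp [Finset.mem_coe.1 ha]))
    obtain ⟨y', rfl⟩ := ht R (fun a ha => hR (by simp [Finset.mem_coe.1 ha]))
    exact ⟨x' + y', map_add _ _ _⟩

theorem exists_finset_mem_range_groupAlg (z : L[G]) :
    ∃ s : Finset L, ∀ R : Subalgebra K L, (s : Set L) ⊆ R →
      z ∈ Set.range (coeMap G R.val) := by
  classical
  induction z using MonoidAlgebra.induction_linear with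
  | zero => exact ⟨∅, fun R _ => ⟨0, map_zero _⟩⟩
  | single g l =>
    refine ⟨{l}, fun R hR => ⟨single g ⟨l, hR (by simp)⟩, ?_⟩⟩
    simp [coeMap_single]
  | add x y hx hy =>
    obtain ⟨s, hs⟩ := hx
    obtain ⟨t, ht⟩ := hy
    refine ⟨s ∪ t, fun R hR => ?_⟩
    obtain ⟨x', rfl⟩ := hs R (fun a ha => hR (by simp [Finset.mem_coe.1 ha]))
    obtain ⟨y', rfl⟩ := ht R (fun a ha => hR (by simp [Finset.mem_coe.1 ha]))
    exact ⟨x' + y', map_add _ _ _⟩

theorem coeMap_ext' {S S' : Type u} [CommRing S] [CommRing S'] [Algebra K S] [Algebra K S']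
    (φ : S →ₐ[K] S') (f : A →ₐ[K] S[G]) (z : S ⊗[K] A) :
    coeMap G φ (ext' f z) =
      ext' ((coeMap G φ).comp f) (Algebra.TensorProduct.map φ (AlgHom.id K A) z) := by
  induction z using TensorProduct.induction_on with
  | zero => simp
  | tmul s a =>
    rw [Algebra.TensorProduct.map_tmul, ext'_tmul, ext'_tmul, Algebra.smul_def, Algebra.smul_def,
      map_mul]
    simp [MonoidAlgebra.coe_algebraMap, coeMap_single]
  | add x y hx hy => simp only [map_add, hx, hy]

/-- The inverse map attached to a monoid map `G → S ⊗ A`. -/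
noncomputable def invMap {S : Type u} [CommRing S] [Algebra K S] (z : G →* S ⊗[K] A) :
    S[G] →ₐ[S] S ⊗[K] A :=
  MonoidAlgebra.lift S (S ⊗[K] A) G z

theorem map_invMap {S S' : Type u} [CommRing S] [CommRing S'] [Algebra K S] [Algebra K S']
    (φ : S →ₐ[K] S') (z : G →* S ⊗[K] A) (x : S[G]) :
    Algebra.TensorProduct.map φ (AlgHom.id K A) (invMap z x) =
      invMap ((Algebra.TensorProduct.map φ (AlgHom.id K A) : S ⊗[K] A →* S' ⊗[K] A).comp z)
        (coeMap G φ x) := by
  induction x using MonoidAlgebra.induction_linear with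
  | zero => simp
  | add x y hx hy => simp only [map_add, hx, hy]
  | single g r =>
    rw [coeMap_single, invMap, invMap, MonoidAlgebra.lift_single, MonoidAlgebra.lift_single,
      Algebra.smul_def, Algebra.smul_def, map_mul]
    simp [Algebra.TensorProduct.algebraMap_apply]

theorem finiteType_of_split [Group.FG G] (e : L ⊗[K] A ≃ₐc[L] L[G]) : Algebra.FiniteType K A := by
  have : Monoid.FG G := Group.fg_iff_monoid_fg.1 inferInstance
  haveI : Algebra.FiniteType L (L[G]) := MonoidAlgebra.finiteType_of_fg
  haveI : Algebra.FiniteType L (L ⊗[K] A) :=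
    Algebra.FiniteType.equiv (A := L[G]) inferInstance (e : L ⊗[K] A ≃ₐ[L] L[G]).symm
  exact Algebra.FiniteType.of_finiteType_tensorProduct_of_faithfullyFlat L

/-- A split form over some extension is split over a finite normal extension. -/
theorem exists_normal_split [Group.FG G] (e : L ⊗[K] A ≃ₐc[L] L[G]) :
    ∃ (F : Type u) (_ : Field F) (_ : Algebra K F), FiniteDimensional K F ∧ Normal K F ∧
      Nonempty (F ⊗[K] A ≃ₐc[F] F[G]) := by
  classical
  haveI := finiteType_of_split e
  obtain ⟨a, ha⟩ := Algebra.FiniteType.out (R := K) (A := A)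
  obtain ⟨T, hT⟩ := (Group.fg_iff_monoid_fg.1 (inferInstance : Group.FG G)).fg_top
  let eL : L ⊗[K] A →ₐ[L] L[G] := (e : L ⊗[K] A →ₐ[L] L[G])
  let f : A →ₐ[K] L[G] := (eL.restrictScalars K).comp Algebra.TensorProduct.includeRight
  have hf : IsCompat f :=
    (isCompat_bialgHom (K := L) (A := L ⊗[K] A) (e : L ⊗[K] A →ₐc[L] L[G])).restrict
  have hef : ∀ z, ext' f z = e z := fun z => by
    have : ext' f = eL := Algebra.TensorProduct.ext_ring (AlgHom.ext fun a => by simp [ext'_tmul, f])
    rw [this]; rfl
  let zL : G →* L ⊗[K] A :=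
    { toFun := fun g => e.symm (single g 1)
      map_one' := by rw [← MonoidAlgebra.one_def, map_one]
      map_mul' := fun g h => by rw [← map_mul, single_mul_single, mul_one] }
  choose s hs using fun x : A => exists_finset_mem_range_groupAlg (K := K) (G := G) (f x)
  choose t ht using fun g : G => exists_finset_mem_range_tensor (K := K) (A := A) (zL g)
  let c : Finset L := a.biUnion s ∪ T.biUnion t
  let R : Subalgebra K L := Algebra.adjoin K (c : Set L)
  haveI hRft : Algebra.FiniteType K R := R.fg_iff_finiteType.1 ⟨c, rfl⟩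
  have hfR : ∀ x, f x ∈ (coeMap G R.val).range := by
    intro x
    have hx : x ∈ Algebra.adjoin K (a : Set A) := by rw [ha]; trivial
    induction hx using Algebra.adjoin_induction with
    | mem x hx =>
      exact hs x R (fun l hl => Algebra.subset_adjoin
        (Finset.mem_coe.2 (Finset.mem_union_left _ (Finset.mem_biUnion.2 ⟨x, hx, hl⟩))))
    | algebraMap r => rw [f.commutes]; exact Subalgebra.algebraMap_mem _ r
    | add x y _ _ hx hy => rw [map_add]; exact add_mem hx hy
    | mul x y _ _ hx hy => rw [map_mul]; exact mul_mem hx hy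
  have hvi : Function.Injective R.val := Subtype.val_injective
  let fR : A →ₐ[K] R[G] :=
    ((AlgEquiv.ofInjective (coeMap G R.val) (coeMap_injective _ hvi)).symm :
      (coeMap G R.val).range →ₐ[K] R[G]).comp (f.codRestrict _ hfR)
  have hfR' : (coeMap G R.val).comp fR = f := AlgHom.ext fun x => by
    simp only [fR, AlgHom.comp_apply]
    exact congrArg Subtype.val ((AlgEquiv.ofInjective (coeMap G R.val)
      (coeMap_injective _ hvi)).apply_symm_apply (f.codRestrict _ hfR x))
  let j : R ⊗[K] A →ₐ[K] L ⊗[K] A := Algebra.TensorProduct.map R.val (AlgHom.id K A)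
  have hj : Function.Injective j :=
    Module.Flat.rTensor_preserves_injective_linearMap (M := A) R.val.toLinearMap hvi
  have hzR : ∀ g, ∃ w, j w = zL g := by
    intro g
    have hg : g ∈ Submonoid.closure (T : Set G) := by rw [hT]; trivial
    induction hg using Submonoid.closure_induction with
    | mem g hg =>
      exact ht g R (fun l hl => Algebra.subset_adjoin
        (Finset.mem_coe.2 (Finset.mem_union_right _ (Finset.mem_biUnion.2 ⟨g, hg, hl⟩))))
    | one => exact ⟨1, by rw [map_one, map_one]⟩
    | mul g h _ _ hg hh =>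
      obtain ⟨w, hw⟩ := hg
      obtain ⟨w', hw'⟩ := hh
      exact ⟨w * w', by rw [map_mul, map_mul, hw, hw']⟩
  choose zR' hzR' using hzR
  let zR : G →* R ⊗[K] A :=
    { toFun := zR'
      map_one' := hj (by rw [hzR', map_one, map_one])
      map_mul' := fun g h => hj (by rw [hzR', map_mul, map_mul, hzR', hzR']) }
  have hjz : (j : R ⊗[K] A →* L ⊗[K] A).comp zR = zL := MonoidHom.ext hzR'
  have hinvL : ∀ x : L[G], invMap zL x = e.symm x := fun x => by
    induction x using MonoidAlgebra.induction_linear with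
    | zero => simp
    | add x y hx hy => simp only [map_add, hx, hy]
    | single g r =>
      rw [invMap, MonoidAlgebra.lift_single, show zL g = e.symm (single g 1) from rfl, ← map_smul]
      simp
  have h1 : ∀ g, ext' fR (zR g) = single g 1 := fun g => coeMap_injective _ hvi (by
    rw [coeMap_ext', hfR', coeMap_single, map_one]
    show ext' f (j (zR' g)) = _
    rw [hzR', hef]
    exact e.apply_symm_apply _)
  have h2 : ∀ x, invMap zR (fR x) = 1 ⊗ₜ x := fun x => hj (by
    show Algebra.TensorProduct.map R.val (AlgHom.id K A) (invMap zR (fR x)) = _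
    rw [map_invMap]
    show invMap ((j : R ⊗[K] A →* L ⊗[K] A).comp zR) ((coeMap G R.val).comp fR x) = j (1 ⊗ₜ x)
    rw [hjz, hfR', hinvL]
    simp [j, f, eL])
  have hcR : IsCompat fR := IsCompat.of_map R.val hvi (by rw [hfR']; exact hf)
  obtain ⟨m, hm⟩ := Ideal.exists_maximal R
  letI := Ideal.Quotient.field m
  haveI : Algebra.FiniteType K (R ⧸ m) :=
    Algebra.FiniteType.of_surjective (Ideal.Quotient.mkₐ K m) (Ideal.Quotient.mkₐ_surjective K m)
  haveI : Module.Finite K (R ⧸ m) := finite_of_finite_type_of_isJacobsonRing K (R ⧸ m)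
  let Ω := AlgebraicClosure K
  let ι : (R ⧸ m) →ₐ[K] Ω := IsAlgClosed.lift
  let F := IntermediateField.normalClosure K (R ⧸ m) Ω
  let ψ : R →ₐ[K] F :=
    (AlgHom.codRestrict (ι.comp (Ideal.Quotient.mkₐ K m)) F.toSubalgebra
      (fun r => (ι.fieldRange_le_normalClosure) ⟨Ideal.Quotient.mkₐ K m r, rfl⟩))
  let fF : A →ₐ[K] F[G] := (coeMap G ψ).comp fR
  have hcF : IsCompat fF := hcR.map ψ
  let zF : G →* F ⊗[K] A :=
    ((Algebra.TensorProduct.map ψ (AlgHom.id K A) : R ⊗[K] A →* F ⊗[K] A)).comp zR
  have h1F : ∀ g, ext' fF (zF g) = single g 1 := fun g => by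
    show ext' ((coeMap G ψ).comp fR) (Algebra.TensorProduct.map ψ (AlgHom.id K A) (zR g)) = _
    rw [← coeMap_ext', h1, coeMap_single, map_one]
  have h2F : ∀ x, invMap zF (fF x) = 1 ⊗ₜ x := fun x => by
    show invMap ((Algebra.TensorProduct.map ψ (AlgHom.id K A) : R ⊗[K] A →* F ⊗[K] A).comp zR)
      (coeMap G ψ (fR x)) = _
    refine (map_invMap ψ zR (fR x)).symm.trans ?_
    rw [h2]
    simp
  refine ⟨F, inferInstance, inferInstance, inferInstance, inferInstance,
    ⟨BialgEquiv.ofBijective hcF.ext'.toBialgHom (Function.bijective_iff_has_inverse.2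
      ⟨invMap zF, fun z => ?_, fun x => ?_⟩)⟩⟩
  · rw [IsCompat.toBialgHom_apply]
    induction z using TensorProduct.induction_on with
    | zero => simp
    | tmul c x =>
      rw [ext'_tmul, map_smul, h2F, TensorProduct.smul_tmul', smul_eq_mul, mul_one]
    | add x y hx hy => simp only [map_add, hx, hy]
  · rw [IsCompat.toBialgHom_apply]
    induction x using MonoidAlgebra.induction_linear with
    | zero => simp
    | add x y hx hy => simp only [map_add, hx, hy]
    | single g r =>
      rw [invMap, MonoidAlgebra.lift_single, map_smul, h1F]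
      simp

end Groth.Agent.TorusPts
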