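import Groth.Agent.TorusPts.Criterion
import Mathlib.RingTheory.HopfAlgebra.Basic
import Mathlib.FieldTheory.SeparableDegree
import Mathlib.FieldTheory.Normal.Basic
import Mathlib.FieldTheory.Galois.Basic
import Mathlib.RingTheory.Bialgebra.Convolution
import Mathlib.Algebra.MonoidAlgebra.Basic

/-!
# Galois action on the characters of a split torus, descent of invariant cocharacters
-/

set_option autoImplicit false
universe u

open scoped TensorProduct MonoidAlgebra
open MonoidAlgebra WithConv

namespace Groth.Agent.TorusPts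

variable {K F A : Type u} [Field K] [Field F] [Algebra K F] [CommRing A] [HopfAlgebra K A]
  {G : Type u} [CommGroup G]

variable (K F A G) in
/-- A splitting of a group of multiplicative type over `F`. -/
structure Splitting where
  f : A →ₐ[K] F[G]
  compat : IsCompat f
  bij : Function.Bijective (ext' f)

theorem exists_splitting (e : F ⊗[K] A ≃ₐc[F] F[G]) : Nonempty (Splitting K F A G) := by
  let eL : F ⊗[K] A →ₐ[F] F[G] := (e : F ⊗[K] A →ₐ[F] F[G])
  let f : A →ₐ[K] F[G] := (eL.restrictScalars K).comp Algebra.TensorProduct.includeRight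
  have hf : IsCompat f :=
    (isCompat_bialgHom (K := F) (A := F ⊗[K] A) (e : F ⊗[K] A →ₐc[F] F[G])).restrict
  have h : ext' f = eL := Algebra.TensorProduct.ext_ring (AlgHom.ext fun a => by simp [ext'_tmul, f])
  exact ⟨⟨f, hf, by rw [h]; exact e.bijective⟩⟩

/-- The pairing of a function on `G` with an element of the group algebra. -/
noncomputable def pairing (φ : G → F) : F[G] →ₗ[F] F :=
  (Finsupp.linearCombination F φ).comp (coeffLinearEquiv F).toLinearMap

theorem pairing_single (φ : G → F) (g : G) (r : F) : pairing φ (single g r) = r * φ g := by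
  simp [pairing]

variable (s : Splitting K F A G)

theorem Splitting.ext_f {M : Type u} [AddCommGroup M] [Module F M] {Φ Ψ : F[G] →ₗ[F] M}
    (h : ∀ a, Φ (s.f a) = Ψ (s.f a)) : Φ = Ψ := by
  refine LinearMap.ext fun z => ?_
  obtain ⟨w, rfl⟩ := s.bij.2 z
  induction w using TensorProduct.induction_on with
  | zero => simp
  | tmul c a => rw [ext'_tmul, map_smul, map_smul, h]
  | add x y hx hy => simp only [map_add, hx, hy]

theorem Splitting.pairing_ext {φ ψ : G → F} (h : ∀ a, pairing φ (s.f a) = pairing ψ (s.f a)) :
    φ = ψ := funext fun g => by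
  simpa [pairing_single] using LinearMap.congr_fun (s.ext_f h) (single g 1)

theorem pairing_mulPair (φ ψ : G → F) (a b : A) :
    pairing (fun p : G × G => φ p.1 * ψ p.2) (mulPair s.f (a ⊗ₜ b)) =
      pairing φ (s.f a) * pairing ψ (s.f b) := by
  rw [mulPair_tmul]
  induction s.f a using MonoidAlgebra.induction_linear with
  | zero => simp
  | add x y hx hy => simp [add_mul, hx, hy]
  | single g r =>
    induction s.f b using MonoidAlgebra.induction_linear with
    | zero => simp
    | add x y hx hy => simp [mul_add, hx, hy]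
    | single g' r' =>
      simp [inlA_single, inrA_single, single_mul_single, pairing_single]
      ring

theorem pairing_diagA (φ : G × G → F) (z : F[G]) :
    pairing φ (diagA F G z) = pairing (fun g => φ (g, g)) z := by
  induction z using MonoidAlgebra.induction_linear with
  | zero => simp
  | add x y hx hy => simp [hx, hy]
  | single g r => simp [diagA_single, pairing_single]

theorem pairing_one (z : F[G]) : pairing (fun _ => 1) z = Coalgebra.counit (R := F) z := by
  induction z using MonoidAlgebra.induction_linear with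
  | zero => simp
  | add x y hx hy => simp [hx, hy]
  | single g r => simp [pairing_single]

/-- The functions whose pairing with `A` is `K`-valued. -/
noncomputable def Splitting.rat : Submonoid (G → F) where
  carrier := {φ | ∀ a, pairing φ (s.f a) ∈ (algebraMap K F).range}
  one_mem' a := ⟨Coalgebra.counit a, by rw [← s.compat.counit, ← pairing_one]; rfl⟩
  mul_mem' {φ ψ} hφ hψ a := by
    have h := pairing_diagA (fun p : G × G => φ p.1 * ψ p.2) (s.f a)
    rw [s.compat.comul] at h
    change pairing (fun g => φ g * ψ g) (s.f a) ∈ _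
    rw [← h]
    induction Coalgebra.comul (R := K) a using TensorProduct.induction_on with
    | zero => rw [map_zero, map_zero]; exact zero_mem _
    | tmul x y => rw [pairing_mulPair s]; exact mul_mem (hφ x) (hψ y)
    | add x y hx hy => rw [map_add, map_add]; exact add_mem hx hy

theorem Splitting.exists_pairing_eq (r : A →ₗ[K] K) :
    ∃ φ : G → F, ∀ a, pairing φ (s.f a) = algebraMap K F (r a) := by
  let e := AlgEquiv.ofBijective (ext' s.f) s.bij
  let w : F ⊗[K] A →ₗ[F] F := ((Algebra.linearMap K F).comp r).liftBaseChange F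
  refine ⟨fun g => w (e.symm (single g 1)), fun a => ?_⟩
  have hlin : pairing (fun g => w (e.symm (single g 1))) = w.comp e.symm.toLinearMap := by
    refine LinearMap.ext fun z => ?_
    induction z using MonoidAlgebra.induction_linear with
    | zero => simp
    | add x y hx hy => simp only [map_add, hx, hy]
    | single g c =>
      rw [pairing_single, show (single g c : F[G]) = c • single g 1 by simp, map_smul, smul_eq_mul]
      rfl
  rw [hlin]
  have hs : e.symm (s.f a) = 1 ⊗ₜ a := by
    rw [AlgEquiv.symm_apply_eq]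
    simp [e, ext'_tmul]
  show w (e.symm (s.f a)) = _
  rw [hs]
  simp [w]

theorem exists_pow_mem_of_fixed [Normal K F] (q : ℕ) [ExpChar K q] (x : F)
    (hx : ∀ σ : F ≃ₐ[K] F, σ x = x) : ∃ n : ℕ, x ^ q ^ n ∈ (algebraMap K F).range := by
  classical
  rw [← minpoly.natSepDegree_eq_one_iff_pow_mem q]
  rw [Polynomial.natSepDegree_eq_of_splits (minpoly K x) (Normal.splits inferInstance x)]
  have hroot : ∀ y ∈ (minpoly K x).aroots F, y = x := by
    intro y hy
    rw [Polynomial.mem_aroots] at hy
    obtain ⟨σ, hσ⟩ := Normal.minpoly_eq_iff_mem_orbit F (x := x) (y := y) |>.1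
      (minpoly.eq_of_irreducible_of_monic (minpoly.irreducible (Normal.isIntegral inferInstance x)) hy.2
        (minpoly.monic (Normal.isIntegral inferInstance x))) |> fun h => MulAction.mem_orbit_iff.1 h
    first
      | exact (hσ.symm.trans (hx σ))
      | exact (((hx σ).symm.trans hσ)).symm
      | (have h2 := congrArg σ.symm hσ; simp at h2; rw [h2]; exact hx σ.symm)
  rw [Finset.card_eq_one]
  refine ⟨x, Finset.eq_singleton_iff_unique_mem.2 ⟨?_, fun y hy => hroot y (Multiset.mem_toFinset.1 hy)⟩⟩
  rw [Multiset.mem_toFinset, Polynomial.mem_aroots]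
  exact ⟨minpoly.ne_zero (Normal.isIntegral inferInstance x), minpoly.aeval K x⟩

variable [FiniteDimensional K F] [Normal K F]

theorem Splitting.pairing_mem_range (φ : G → F) (hidem : ∀ g, φ g = 0 ∨ φ g = 1)
    (hfix : ∀ (σ : F ≃ₐ[K] F) a, σ (pairing φ (s.f a)) = pairing φ (s.f a)) : φ ∈ s.rat := by
  classical
  obtain ⟨q, hq⟩ := ExpChar.exists K
  haveI := expChar_of_injective_algebraMap (algebraMap K F).injective q
  let E : IntermediateField K F := IntermediateField.fixedField ⊤
  let b := Module.finBasis K E
  choose n hn using fun i => exists_pow_mem_of_fixed (K := K) q (b i : F)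
    (fun σ => (b i).2 ⟨σ, trivial⟩)
  let N := Finset.univ.sup n
  have hb : ∀ i, (b i : F) ^ q ^ N ∈ (algebraMap K F).range := fun i => by
    obtain ⟨d, hd⟩ := Nat.exists_eq_add_of_le (Finset.le_sup (f := n) (Finset.mem_univ i))
    rw [show N = n i + d from hd, pow_add, pow_mul]
    exact pow_mem (hn i) _
  let c : A →ₗ[K] E :=
    { toFun := fun a => ⟨pairing φ (s.f a), fun σ => hfix σ.1 a⟩
      map_add' := fun x y => Subtype.ext (by simp)
      map_smul' := fun r x => Subtype.ext (by
        show pairing φ (s.f (r • x)) = r • pairing φ (s.f x)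
        rw [map_smul, LinearMap.map_smul_of_tower]) }
  choose ψ hψ using fun i => s.exists_pairing_eq ((b.coord i).comp c)
  have hφ : φ = fun g => ∑ i, (b i : F) * ψ i g := by
    refine s.pairing_ext fun a => ?_
    have h : pairing (fun g => ∑ i, (b i : F) * ψ i g) (s.f a) =
        ∑ i, (b i : F) * pairing (ψ i) (s.f a) := by
      induction s.f a using MonoidAlgebra.induction_linear with
      | zero => simp
      | add x y hx hy => simp [hx, hy, mul_add, Finset.sum_add_distrib]
      | single g r =>
        simp only [pairing_single, Finset.mul_sum]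
        exact Finset.sum_congr rfl fun i _ => by ring
    rw [h]
    have h2 := congrArg (fun e : E => (e : F)) (b.sum_repr (c a))
    simp only [hψ, LinearMap.comp_apply, Module.Basis.coord_apply]
    refine h2.symm.trans ?_
    rw [AddSubmonoidClass.coe_finsetSum]
    exact Finset.sum_congr rfl fun i _ => by
      rw [IntermediateField.coe_smul, Algebra.smul_def, mul_comm]
  have hpow : φ = fun g => ∑ i, (b i : F) ^ q ^ N * (ψ i ^ q ^ N) g := by
    funext g
    have h1 : φ g ^ q ^ N = φ g := by
      rcases hidem g with h | h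
      · rw [h, zero_pow (expChar_pow_pos K q N).ne']
      · rw [h, one_pow]
    conv_lhs => rw [← h1, hφ]
    rw [sum_pow_char_pow]
    simp [mul_pow]
  intro a
  have h : pairing φ (s.f a) = ∑ i, (b i : F) ^ q ^ N * pairing (ψ i ^ q ^ N) (s.f a) := by
    rw [hpow]
    induction s.f a using MonoidAlgebra.induction_linear with
    | zero => simp
    | add x y hx hy => simp only [map_add, hx, hy, mul_add, Finset.sum_add_distrib]
    | single g r =>
      simp only [pairing_single, Finset.mul_sum]
      exact Finset.sum_congr rfl fun i _ => by ring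
  rw [h]
  refine sum_mem fun i _ => mul_mem (hb i) ?_
  exact (pow_mem (show ψ i ∈ s.rat from fun x => ⟨_, (hψ i x).symm⟩) _) a

omit [FiniteDimensional K F] [Normal K F] in
theorem Splitting.exists_twist (σ : F ≃ₐ[K] F) :
    ∃ h : G →* G, ∀ a, coeMap G (σ : F →ₐ[K] F) (s.f a) = mapDomainAlgHom F F h (s.f a) := by
  have hc : IsCompat ((coeMap G (σ : F →ₐ[K] F)).comp s.f) := s.compat.map _
  let Φ := hc.ext'.toBialgHom
  let e : F ⊗[K] A ≃ₐc[F] F[G] := BialgEquiv.ofBijective s.compat.ext'.toBialgHom s.bij
  let Ψ : F[G] →ₐc[F] F[G] := Φ.comp (e.symm : F[G] →ₐc[F] F ⊗[K] A)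
  refine ⟨mapDomainOfBialgHom Ψ, fun a => ?_⟩
  have h1 : Ψ (s.f a) = coeMap G (σ : F →ₐ[K] F) (s.f a) := by
    have : e ((1 : F) ⊗ₜ a) = s.f a := by
      show ext' s.f (1 ⊗ₜ a) = _
      rw [ext'_tmul, one_smul]
    show Φ (e.symm (s.f a)) = _
    rw [← this, e.symm_apply_apply, this]
    show ext' _ (1 ⊗ₜ a) = _
    rw [ext'_tmul, one_smul]
    rfl
  rw [← h1]
  conv_lhs => rw [← mapDomainBialgHom_mapDomainOfBialgHom Ψ]
  rfl

/-- The action of an automorphism of `F` on the character group. -/
noncomputable def Splitting.twist (σ : F ≃ₐ[K] F) : G →* G := (s.exists_twist σ).choose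

omit [FiniteDimensional K F] [Normal K F] in
theorem Splitting.twist_spec (σ : F ≃ₐ[K] F) (a : A) :
    coeMap G (σ : F →ₐ[K] F) (s.f a) = mapDomainAlgHom F F (s.twist σ) (s.f a) :=
  (s.exists_twist σ).choose_spec a

omit [FiniteDimensional K F] [Normal K F] in
theorem Splitting.monoidHom_ext {H : Type u} [CommGroup H] {u v : G →* H}
    (h : ∀ a, mapDomainAlgHom F F u (s.f a) = mapDomainAlgHom F F v (s.f a)) : u = v :=
  MonoidHom.ext fun g => single_left_injective (R := F) one_ne_zero (by
    simpa using LinearMap.congr_fun (s.ext_f (Φ := (mapDomainAlgHom F F u).toLinearMap)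
      (Ψ := (mapDomainAlgHom F F v).toLinearMap) h) (single g 1))

omit [FiniteDimensional K F] [Normal K F] in
theorem coeMap_mapDomain {H : Type u} [CommGroup H] (φ : F →ₐ[K] F) (u : G →* H) (z : F[G]) :
    coeMap H φ (mapDomainAlgHom F F u z) = mapDomainAlgHom F F u (coeMap G φ z) := by
  induction z using MonoidAlgebra.induction_linear with
  | zero => simp
  | add x y hx hy => simp only [map_add, MonoidAlgebra.coeff_add, Finsupp.add_apply, hx, hy]
  | single g r => simp [coeMap_single]

omit [FiniteDimensional K F] [Normal K F] in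
theorem mapDomain_comp_apply {H J : Type u} [CommGroup H] [CommGroup J] (u : G →* H) (v : H →* J)
    (z : F[G]) : mapDomainAlgHom F F v (mapDomainAlgHom F F u z) =
      mapDomainAlgHom F F (v.comp u) z := by
  induction z using MonoidAlgebra.induction_linear with
  | zero => simp
  | add x y hx hy => simp [hx, hy]
  | single g r => simp

omit [FiniteDimensional K F] [Normal K F] in
theorem Splitting.twist_mul (σ τ : F ≃ₐ[K] F) :
    s.twist (σ * τ) = (s.twist τ).comp (s.twist σ) := s.monoidHom_ext fun a => by
  rw [← s.twist_spec, ← mapDomain_comp_apply, ← s.twist_spec, ← coeMap_mapDomain, ← s.twist_spec]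
  induction s.f a using MonoidAlgebra.induction_linear with
  | zero => simp
  | add x y hx hy => simp [hx, hy]
  | single g r => simp [coeMap_single]

omit [FiniteDimensional K F] [Normal K F] in
theorem Splitting.twist_one : s.twist 1 = MonoidHom.id G := s.monoidHom_ext fun a => by
  rw [← s.twist_spec]
  induction s.f a using MonoidAlgebra.induction_linear with
  | zero => simp
  | add x y hx hy => simp [hx, hy]
  | single g r => simp [coeMap_single]

/-- The twists, as a homomorphism into the automorphisms. -/
noncomputable def Splitting.rho : (F ≃ₐ[K] F) →* (G ≃* G) where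
  toFun σ :=
    { toFun := s.twist σ⁻¹
      invFun := s.twist σ
      left_inv := fun g => by
        have := DFunLike.congr_fun (s.twist_mul σ⁻¹ σ) g
        rwa [inv_mul_cancel, s.twist_one, eq_comm] at this
      right_inv := fun g => by
        have := DFunLike.congr_fun (s.twist_mul σ σ⁻¹) g
        rwa [mul_inv_cancel, s.twist_one, eq_comm] at this
      map_mul' := map_mul _ }
  map_one' := MulEquiv.ext fun g => by
    show s.twist 1⁻¹ g = g
    rw [inv_one, s.twist_one]; rfl
  map_mul' σ τ := MulEquiv.ext fun g => by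
    show s.twist (σ * τ)⁻¹ g = s.twist σ⁻¹ (s.twist τ⁻¹ g)
    rw [mul_inv_rev, s.twist_mul]; rfl

/-! ### Rational points -/

omit [FiniteDimensional K F] [Normal K F] in
theorem Splitting.exists_char (x : A →ₐ[K] K) :
    ∃ χ : G →* F, ∀ a, pairing χ (s.f a) = algebraMap K F (x a) := by
  let e := AlgEquiv.ofBijective (ext' s.f) s.bij
  let w : F ⊗[K] A →ₐ[F] F :=
    Algebra.TensorProduct.lift (AlgHom.id F F) ((Algebra.ofId K F).comp x) (fun _ _ => .all _ _)
  let χ : G →* F := ((w.comp (e.symm : F[G] →ₐ[F] F ⊗[K] A)) : F[G] →* F).comp (MonoidAlgebra.of F G)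
  refine ⟨χ, fun a => ?_⟩
  have hlin : pairing χ = (w.comp (e.symm : F[G] →ₐ[F] F ⊗[K] A)).toLinearMap := by
    refine LinearMap.ext fun z => ?_
    induction z using MonoidAlgebra.induction_linear with
    | zero => simp
    | add x y hx hy => simp only [map_add, hx, hy]
    | single g c =>
      rw [pairing_single, show (single g c : F[G]) = c • single g 1 by simp, map_smul, smul_eq_mul]
      rfl
  rw [hlin]
  have hs : e.symm (s.f a) = 1 ⊗ₜ a := by
    rw [AlgEquiv.symm_apply_eq]
    simp [e, ext'_tmul]
  show w (e.symm (s.f a)) = _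
  rw [hs]
  simp [w, Algebra.ofId_apply]

/-- The character attached to a rational point. -/
noncomputable def Splitting.char (x : A →ₐ[K] K) : G →* F := (s.exists_char x).choose

omit [FiniteDimensional K F] [Normal K F] in
theorem Splitting.char_spec (x : A →ₐ[K] K) (a : A) :
    pairing (s.char x) (s.f a) = algebraMap K F (x a) := (s.exists_char x).choose_spec a

omit [FiniteDimensional K F] [Normal K F] in
theorem Splitting.char_mul (x y : WithConv (A →ₐ[K] K)) :
    s.char (x * y).ofConv = s.char x.ofConv * s.char y.ofConv := by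
  refine DFunLike.coe_injective (s.pairing_ext fun a => ?_)
  rw [s.char_spec]
  have h := pairing_diagA (fun p : G × G => s.char x.ofConv p.1 * s.char y.ofConv p.2) (s.f a)
  rw [s.compat.comul] at h
  change _ = pairing (fun g => s.char x.ofConv g * s.char y.ofConv g) (s.f a)
  rw [← h]
  show algebraMap K F ((x * y) a) = _
  rw [AlgHom.convMul_apply]
  induction Coalgebra.comul (R := K) a using TensorProduct.induction_on with
  | zero => simp
  | tmul u v => simp [pairing_mulPair s, s.char_spec]
  | add u v hu hv => simp [hu, hv]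

omit [FiniteDimensional K F] [Normal K F] in
theorem Splitting.char_one : s.char (1 : WithConv (A →ₐ[K] K)).ofConv = 1 := by
  refine DFunLike.coe_injective (s.pairing_ext fun a => ?_)
  rw [s.char_spec]
  show algebraMap K F ((1 : WithConv (A →ₐ[K] K)) a) = pairing (fun _ => 1) (s.f a)
  rw [pairing_one, s.compat.counit, AlgHom.convOne_apply]
  rfl

omit [FiniteDimensional K F] [Normal K F] in
theorem Splitting.char_injective : Function.Injective fun x : A →ₐ[K] K => s.char x :=
  fun x y h => AlgHom.ext fun a => (algebraMap K F).injective (by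
    rw [← s.char_spec, ← s.char_spec]
    exact congrArg (fun χ : G →* F => pairing χ (s.f a)) h)

omit [FiniteDimensional K F] [Normal K F] in
theorem Splitting.char_twist (x : A →ₐ[K] K) (σ : F ≃ₐ[K] F) (g : G) :
    σ (s.char x (s.twist σ g)) = s.char x g := by
  refine congrFun (s.pairing_ext (φ := fun g => σ (s.char x (s.twist σ g)))
    (ψ := fun g => s.char x g) fun a => ?_) g
  have h2 : ∀ (u : G →* G) (φ : G → F) (z : F[G]),
      pairing φ (mapDomainAlgHom F F u z) = pairing (φ ∘ u) z := fun u φ z => by
    induction z using MonoidAlgebra.induction_linear with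
    | zero => simp
    | add u v hu hv => simp only [map_add, MonoidAlgebra.coeff_add, Finsupp.add_apply, hu, hv]
    | single g r => simp [pairing_single]
  have h3 : σ (pairing (s.char x) (s.f a)) = pairing (s.char x) (s.f a) := by
    rw [s.char_spec, σ.commutes]
  have h4 : σ (pairing (s.char x) (s.f a)) =
      pairing (fun g => σ (s.char x g)) (coeMap G (σ : F →ₐ[K] F) (s.f a)) := by
    induction s.f a using MonoidAlgebra.induction_linear with
    | zero => simp
    | add u v hu hv => simp [hu, hv]
    | single g r => simp [coeMap_single, pairing_single]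
  rw [s.twist_spec, h2] at h4
  exact (h4.symm.trans h3)

/-! ### Descent of an invariant cocharacter -/

theorem Splitting.exists_descend {Z : Type u} [CommGroup Z] (u : G →* Z) (hu : Function.Surjective u)
    (hinv : ∀ σ, u.comp (s.twist σ) = u) :
    ∃ φ : A →ₐc[K] K[Z], Function.Surjective φ := by
  classical
  let e : F ⊗[K] A ≃ₐc[F] F[G] := BialgEquiv.ofBijective s.compat.ext'.toBialgHom s.bij
  let ℓ : A →ₐ[K] F[Z] := ((mapDomainAlgHom F F u).restrictScalars K).comp s.f
  have hℓ : IsCompat ℓ := by
    have h := (isCompat_bialgHom (K := F) (A := F ⊗[K] A)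
      ((mapDomainBialgHom F u).comp (e : F ⊗[K] A →ₐc[F] F[G]))).restrict
    have : ((((mapDomainBialgHom F u).comp (e : F ⊗[K] A →ₐc[F] F[G]) : F ⊗[K] A →ₐc[F] F[Z]) :
        F ⊗[K] A →ₐ[F] F[Z]).restrictScalars K).comp Algebra.TensorProduct.includeRight = ℓ := by
      refine AlgHom.ext fun a => ?_
      show mapDomainAlgHom F F u (ext' s.f (1 ⊗ₜ a)) = mapDomainAlgHom F F u (s.f a)
      rw [ext'_tmul, one_smul]
    rwa [← this]
  have hfix : ∀ (σ : F ≃ₐ[K] F) a, coeMap Z (σ : F →ₐ[K] F) (ℓ a) = ℓ a := fun σ a => by
    show coeMap Z _ (mapDomainAlgHom F F u (s.f a)) = mapDomainAlgHom F F u (s.f a)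
    rw [coeMap_mapDomain, s.twist_spec, mapDomain_comp_apply, hinv]
  have hpair : ∀ (m : Z) (z : F[G]),
      (mapDomainAlgHom F F u z).coeff m = pairing (fun g => if u g = m then 1 else 0) z := by
    intro m z
    induction z using MonoidAlgebra.induction_linear with
    | zero => simp
    | add x y hx hy => simp only [map_add, MonoidAlgebra.coeff_add, Finsupp.add_apply, hx, hy]
    | single g r => simp [pairing_single, Finsupp.single_apply]
  have hK : ∀ a, ℓ a ∈ (coeMap Z (Algebra.ofId K F)).range := by
    intro a
    have hr : ∀ m, (ℓ a).coeff m ∈ (algebraMap K F).range := fun m => by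
      show (mapDomainAlgHom F F u (s.f a)).coeff m ∈ _
      rw [hpair]
      refine s.pairing_mem_range _ (fun g => ?_) (fun σ x => ?_) a
      · by_cases h : u g = m <;> simp [h]
      · rw [← hpair]
        conv_rhs => rw [show mapDomainAlgHom F F u (s.f x) = ℓ x from rfl, ← hfix σ x]
        simp [coeMap, mapAlgHom, ℓ]
    rw [← (ℓ a).sum_single]
    refine sum_mem fun m _ => ?_
    obtain ⟨c, hc⟩ := hr m
    exact ⟨single m c, by
      show coeMap Z (Algebra.ofId K F) (single m c) = _
      rw [coeMap_single, Algebra.ofId_apply, hc]⟩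
  have hvi : Function.Injective (Algebra.ofId K F) := (algebraMap K F).injective
  let ℓ0 : A →ₐ[K] K[Z] :=
    ((AlgEquiv.ofInjective (coeMap Z (Algebra.ofId K F)) (coeMap_injective _ hvi)).symm :
      (coeMap Z (Algebra.ofId K F)).range →ₐ[K] K[Z]).comp (ℓ.codRestrict _ hK)
  have hℓ0 : (coeMap Z (Algebra.ofId K F)).comp ℓ0 = ℓ := AlgHom.ext fun x => by
    simp only [ℓ0, AlgHom.comp_apply]
    exact congrArg Subtype.val ((AlgEquiv.ofInjective (coeMap Z (Algebra.ofId K F))
      (coeMap_injective _ hvi)).apply_symm_apply (ℓ.codRestrict _ hK x))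
  have hc0 : IsCompat ℓ0 := IsCompat.of_map (Algebra.ofId K F) hvi (by rw [hℓ0]; exact hℓ)
  refine ⟨hc0.toBialgHom, fun w => ?_⟩
  obtain ⟨π, hπ⟩ := (Algebra.linearMap K F).exists_leftInverse_of_injective
    (LinearMap.ker_eq_bot.2 hvi)
  have hπ1 : ∀ r : K, π (algebraMap K F r) = r := fun r => LinearMap.congr_fun hπ r
  let P : F[Z] →ₗ[K] K[Z] :=
    (coeffLinearEquiv K).symm.toLinearMap ∘ₗ (Finsupp.mapRange.linearMap π) ∘ₗ
      (coeffLinearEquiv K).toLinearMap
  have hP : ∀ (c : F) (y : K[Z]), P (c • coeMap Z (Algebra.ofId K F) y) = π c • y := by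
    intro c y
    induction y using MonoidAlgebra.induction_linear with
    | zero => simp
    | add x y hx hy => simp only [map_add, smul_add, hx, hy]
    | single g r =>
      rw [coeMap_single, Algebra.ofId_apply]
      have h : π (c * algebraMap K F r) = π c * r := by
        rw [mul_comm c, ← Algebra.smul_def, map_smul, smul_eq_mul, mul_comm]
      simp [P, h]
  have hsurj : ∀ z : F ⊗[K] A, P (mapDomainAlgHom F F u (ext' s.f z)) ∈ LinearMap.range ℓ0.toLinearMap := by
    intro z
    induction z using TensorProduct.induction_on with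
    | zero => simp
    | tmul c a =>
      refine ⟨π c • a, ?_⟩
      rw [ext'_tmul, map_smul, map_smul]
      rw [show mapDomainAlgHom F F u (s.f a) = coeMap Z (Algebra.ofId K F) (ℓ0 a) from
        (AlgHom.congr_fun hℓ0 a).symm, hP]
      rfl
    | add x y hx hy => simp only [map_add]; exact add_mem hx hy
  obtain ⟨z₀, hz₀⟩ : ∃ z₀, mapDomainAlgHom F F u z₀ = coeMap Z (Algebra.ofId K F) w := by
    generalize coeMap Z (Algebra.ofId K F) w = t
    induction t using MonoidAlgebra.induction_linear with
    | zero => exact ⟨0, map_zero _⟩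
    | add x y hx hy =>
      obtain ⟨a, rfl⟩ := hx
      obtain ⟨b, rfl⟩ := hy
      exact ⟨a + b, map_add _ _ _⟩
    | single g r =>
      obtain ⟨g', rfl⟩ := hu g
      exact ⟨single g' r, by simp⟩
  obtain ⟨z, rfl⟩ := s.bij.2 z₀
  obtain ⟨a, ha⟩ := hsurj z
  refine ⟨a, ?_⟩
  rw [IsCompat.toBialgHom_apply]
  show ℓ0.toLinearMap a = w
  rw [ha, hz₀]
  have := hP 1 w
  rw [one_smul, ← map_one (algebraMap K F), hπ1, one_smul] at this
  exact this

end Groth.Agent.TorusPts
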