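import Mathlib.RingTheory.Bialgebra.MonoidAlgebra
import Mathlib.RingTheory.Bialgebra.TensorProduct
import Mathlib.RingTheory.TensorProduct.Maps
import Mathlib.LinearAlgebra.TensorProduct.Tower
import Mathlib.Algebra.MonoidAlgebra.MapDomain
import Mathlib.RingTheory.Flat.Basic

/-!
# When an algebra map into a group algebra respects comultiplication
-/

set_option autoImplicit false
universe u

open scoped TensorProduct MonoidAlgebra
open MonoidAlgebra

namespace Groth.Agent.TorusPts

variable {K S A : Type u} [CommRing K] [CommRing S] [Algebra K S] [CommRing A] [Bialgebra K A]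
  {G : Type u} [CommGroup G]

/-- The two inclusions into the group algebra of the square. -/
noncomputable def inlA (S G : Type u) [CommRing S] [CommGroup G] : S[G] →ₐ[S] S[G × G] :=
  mapDomainAlgHom S S (MonoidHom.inl G G)

/-- See `inlA`. -/
noncomputable def inrA (S G : Type u) [CommRing S] [CommGroup G] : S[G] →ₐ[S] S[G × G] :=
  mapDomainAlgHom S S (MonoidHom.inr G G)

/-- The diagonal. -/
noncomputable def diagA (S G : Type u) [CommRing S] [CommGroup G] : S[G] →ₐ[S] S[G × G] :=
  mapDomainAlgHom S S ((MonoidHom.id G).prod (MonoidHom.id G))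

theorem inlA_single (g : G) (r : S) : inlA S G (single g r) = single (g, 1) r := by
  simp [inlA]

theorem inrA_single (g : G) (r : S) : inrA S G (single g r) = single (1, g) r := by
  simp [inrA]

theorem diagA_single (g : G) (r : S) : diagA S G (single g r) = single (g, g) r := by
  simp [diagA]

/-- The comparison `S[G] ⊗ S[G] → S[G × G]`. -/
noncomputable def theta (S G : Type u) [CommRing S] [CommGroup G] :
    S[G] ⊗[S] S[G] →ₐ[S] S[G × G] :=
  Algebra.TensorProduct.lift (inlA S G) (inrA S G) (fun _ _ => .all _ _)

theorem theta_injective : Function.Injective (theta S G) := by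
  let ψ : S[G × G] →ₐ[S] S[G] ⊗[S] S[G] :=
    MonoidAlgebra.lift S (S[G] ⊗[S] S[G]) (G × G)
      { toFun := fun p => single p.1 1 ⊗ₜ single p.2 1
        map_one' := by simp [MonoidAlgebra.one_def, Algebra.TensorProduct.one_def]
        map_mul' := fun p q => by simp [Algebra.TensorProduct.tmul_mul_tmul, single_mul_single] }
  have h : ψ.comp (theta S G) = AlgHom.id S _ := by
    refine Algebra.TensorProduct.ext ?_ ?_
    · ext g
      simp [theta, ψ, inlA_single, inrA_single, ← MonoidAlgebra.one_def]
    · ext g
      simp [theta, ψ, inlA_single, inrA_single, ← MonoidAlgebra.one_def]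
  exact Function.LeftInverse.injective (g := ψ) (fun z => AlgHom.congr_fun h z)

theorem theta_comul (x : S[G]) : theta S G (Coalgebra.comul x) = diagA S G x := by
  show (theta S G).comp (Bialgebra.comulAlgHom S S[G]) x = _
  refine AlgHom.congr_fun ?_ x
  ext g
  simp [theta, inlA_single, inrA_single, diagA_single, single_mul_single]

/-- The product map `a ⊗ b ↦ f(a)(x) · f(b)(y)`. -/
noncomputable def mulPair (f : A →ₐ[K] S[G]) : A ⊗[K] A →ₐ[K] S[G × G] :=
  Algebra.TensorProduct.lift (((inlA S G).restrictScalars K).comp f)
    (((inrA S G).restrictScalars K).comp f) (fun _ _ => .all _ _)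

theorem mulPair_tmul (f : A →ₐ[K] S[G]) (a b : A) :
    mulPair f (a ⊗ₜ b) = inlA S G (f a) * inrA S G (f b) := by
  simp [mulPair]

/-- Compatibility with counit and comultiplication. -/
structure IsCompat (f : A →ₐ[K] S[G]) : Prop where
  counit : ∀ a, Coalgebra.counit (R := S) (f a) = algebraMap K S (Coalgebra.counit a)
  comul : ∀ a, diagA S G (f a) = mulPair f (Coalgebra.comul a)

theorem isCompat_bialgHom (f : A →ₐc[K] K[G]) : IsCompat (f : A →ₐ[K] K[G]) where
  counit a := by simp
  comul a := by
    show diagA K G (f a) = _
    rw [← theta_comul, ← CoalgHomClass.map_comp_comul_apply f]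
    induction Coalgebra.comul (R := K) a using TensorProduct.induction_on with
    | zero => simp
    | tmul x y => simp [theta, mulPair_tmul]
    | add x y hx hy => simp [hx, hy]

/-- A compatible map is a bialgebra map. -/
noncomputable def IsCompat.toBialgHom {f : A →ₐ[K] K[G]} (hf : IsCompat f) : A →ₐc[K] K[G] :=
  BialgHom.ofAlgHom f (AlgHom.ext fun a => by simpa using hf.counit a) <| by
    refine AlgHom.ext fun a => theta_injective ?_
    show theta K G (Algebra.TensorProduct.map f f (Coalgebra.comul a)) = theta K G (Coalgebra.comul (f a))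
    rw [theta_comul, hf.comul]
    induction Coalgebra.comul (R := K) a using TensorProduct.induction_on with
    | zero => simp
    | tmul x y => simp [theta, mulPair_tmul]
    | add x y hx hy => simp [hx, hy]

@[simp]
theorem IsCompat.toBialgHom_apply {f : A →ₐ[K] K[G]} (hf : IsCompat f) (a : A) :
    hf.toBialgHom a = f a := rfl

/-- The scalar extension. -/
noncomputable def ext' (f : A →ₐ[K] S[G]) : S ⊗[K] A →ₐ[S] S[G] :=
  Algebra.TensorProduct.lift (Algebra.ofId S S[G]) f (fun _ _ => .all _ _)

theorem ext'_tmul (f : A →ₐ[K] S[G]) (s : S) (a : A) : ext' f (s ⊗ₜ a) = s • f a := by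
  simp [ext', Algebra.smul_def]

theorem mulPair_ext' (f : A →ₐ[K] S[G]) (a : A) :
    mulPair (ext' f) (Coalgebra.comul (R := S) ((1 : S) ⊗ₜ[K] a)) =
      mulPair f (Coalgebra.comul (R := K) a) := by
  rw [TensorProduct.comul_tmul, CommSemiring.comul_apply]
  induction Coalgebra.comul (R := K) a using TensorProduct.induction_on with
  | zero => simp
  | tmul x y => simp [mulPair_tmul, ext'_tmul]
  | add x y hx hy => simp [TensorProduct.tmul_add, hx, hy]

theorem IsCompat.ext' {f : A →ₐ[K] S[G]} (hf : IsCompat f) : IsCompat (ext' f) where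
  counit z := by
    induction z using TensorProduct.induction_on with
    | zero => simp
    | tmul s a =>
      rw [ext'_tmul, map_smul, hf.counit]
      simp [Algebra.smul_def, mul_comm]
    | add x y hx hy => simp only [map_add, hx, hy]
  comul z := by
    induction z using TensorProduct.induction_on with
    | zero => simp
    | tmul s a =>
      rw [show s ⊗ₜ[K] a = s • ((1 : S) ⊗ₜ[K] a) by rw [TensorProduct.smul_tmul', smul_eq_mul, mul_one],
        map_smul, map_smul, map_smul, map_smul, mulPair_ext', ← hf.comul,
        ext'_tmul, one_smul]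
    | add x y hx hy => simp only [map_add, hx, hy]

theorem IsCompat.restrict {g : S ⊗[K] A →ₐ[S] S[G]} (hg : IsCompat g) :
    IsCompat ((g.restrictScalars K).comp Algebra.TensorProduct.includeRight) where
  counit a := by
    simpa [Algebra.smul_def] using hg.counit (1 ⊗ₜ a)
  comul a := by
    have h := hg.comul (1 ⊗ₜ a)
    have hg' : g = Groth.Agent.TorusPts.ext'
        ((g.restrictScalars K).comp Algebra.TensorProduct.includeRight) := by
      refine Algebra.TensorProduct.ext_ring ?_
      ext a
      simp [ext'_tmul]
    rw [show mulPair g = mulPair (Groth.Agent.TorusPts.ext'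
      ((g.restrictScalars K).comp Algebra.TensorProduct.includeRight)) by rw [← hg'],
      mulPair_ext'] at h
    exact h

section Natural

variable {S' : Type u} [CommRing S'] [Algebra K S']

/-- Change of coefficients. -/
noncomputable def coeMap (G : Type u) [CommGroup G] (φ : S →ₐ[K] S') : S[G] →ₐ[K] S'[G] :=
  mapAlgHom G φ

theorem coeMap_single (φ : S →ₐ[K] S') (g : G) (r : S) :
    coeMap G φ (single g r) = single g (φ r) := by
  simp [coeMap]

theorem coeMap_injective (φ : S →ₐ[K] S') (hφ : Function.Injective φ) :
    Function.Injective (coeMap G φ) := fun x y h => by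
  ext g
  refine hφ ?_
  have := congrArg (fun z => z.coeff g) h
  simpa [coeMap, mapAlgHom] using this

theorem coeMap_inlA (φ : S →ₐ[K] S') (x : S[G]) :
    coeMap (G × G) φ (inlA S G x) = inlA S' G (coeMap G φ x) := by
  induction x using MonoidAlgebra.induction_linear with
  | zero => simp
  | add x y hx hy => simp [hx, hy]
  | single g r => simp [coeMap_single, inlA_single]

theorem coeMap_inrA (φ : S →ₐ[K] S') (x : S[G]) :
    coeMap (G × G) φ (inrA S G x) = inrA S' G (coeMap G φ x) := by
  induction x using MonoidAlgebra.induction_linear with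
  | zero => simp
  | add x y hx hy => simp [hx, hy]
  | single g r => simp [coeMap_single, inrA_single]

theorem coeMap_diagA (φ : S →ₐ[K] S') (x : S[G]) :
    coeMap (G × G) φ (diagA S G x) = diagA S' G (coeMap G φ x) := by
  induction x using MonoidAlgebra.induction_linear with
  | zero => simp
  | add x y hx hy => simp [hx, hy]
  | single g r => simp [coeMap_single, diagA_single]

theorem coeMap_counit (φ : S →ₐ[K] S') (x : S[G]) :
    Coalgebra.counit (R := S') (coeMap G φ x) = φ (Coalgebra.counit (R := S) x) := by
  induction x using MonoidAlgebra.induction_linear with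
  | zero => simp
  | add x y hx hy => simp [hx, hy]
  | single g r => simp [coeMap_single]

theorem mulPair_coeMap (φ : S →ₐ[K] S') (f : A →ₐ[K] S[G]) (z : A ⊗[K] A) :
    coeMap (G × G) φ (mulPair f z) = mulPair ((coeMap G φ).comp f) z := by
  induction z using TensorProduct.induction_on with
  | zero => simp
  | tmul a b => simp [mulPair_tmul, coeMap_inlA, coeMap_inrA]
  | add x y hx hy => simp only [map_add, hx, hy]

theorem IsCompat.map {f : A →ₐ[K] S[G]} (hf : IsCompat f) (φ : S →ₐ[K] S') :
    IsCompat ((coeMap G φ).comp f) where
  counit a := by simp [coeMap_counit, hf.counit]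
  comul a := by
    rw [AlgHom.comp_apply, ← coeMap_diagA, hf.comul, mulPair_coeMap]

theorem IsCompat.of_map {f : A →ₐ[K] S[G]} (φ : S →ₐ[K] S') (hφ : Function.Injective φ)
    (hf : IsCompat ((coeMap G φ).comp f)) : IsCompat f where
  counit a := hφ (by
    have := hf.counit a
    rw [AlgHom.comp_apply, coeMap_counit] at this
    rw [this, φ.commutes])
  comul a := coeMap_injective φ hφ (by
    rw [coeMap_diagA, mulPair_coeMap]
    exact hf.comul a)

end Natural

end Groth.Agent.TorusPts
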